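import Groth.Agent.RedSub.H606.D5Fld
import Groth.Agent.RedSub.H663.D5All

/-!
# `D5All k` for every field `k`
-/

set_option autoImplicit false

universe u

namespace Groth.Agent.RedSub.H606.D5Any

/-- **Any two cocharacters of a reductive group over a field have commuting conjugates under
rational points of their unipotent groups.** -/
theorem d5All (k : Type u) [Field k] : H664.LeviSub.D5All k :=
  D5Fld.d5_of_algClosure k (H663.D5All.d5All_algClosed _)

end Groth.Agent.RedSub.H606.D5Any
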