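import Groth.Agent.RedSub.H664.Ad
import Groth.Agent.Sga3.H140.QuotQC

/-!
# Uniqueness of conjugates of a cocharacter inside a commutative subgroup, and descent

`α : 𝔾_m ⟶ G`, `i : T ⟶ G` commutative.  There is at most one point `u` of `U_G(α)` such that
`u α u⁻¹` factors through `T`; so `u` descends along faithfully flat quasi-compact morphisms.
-/

set_option autoImplicit false
set_option linter.unusedSectionVars false

universe u

open CategoryTheory MonoidalCategory CartesianMonoidalCategory MonObj GrpObj AlgebraicGeometry Limits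
open Groth.Agent.Sga3B Groth.Agent.Sga3B.Parab Groth.Agent.Sga3B.Parab.Dyn998
open Groth.Agent.Sga3B.Parab.DynLevi998 Groth.Agent.Sga3B.Parab.DynInter998
open Groth.Agent.Sga3B.Parab.DynExist998 Groth.Agent.Sga3B.Parab.DynBc998
open Groth.Agent.RedSub.H664.Comb Groth.Agent.RedSub.H664.Ad

namespace Groth.Agent.RedSub.H606.Uniq

variable {S S' : Scheme.{u}} {G T : Over S} [GrpObj G] [GrpObj T]

/-- `T` is commutative (on points). -/
def IsComm (T : Over S) [GrpObj T] : Prop := ∀ (X : Over S) (s t : X ⟶ T), s * t = t * s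

/-- the point `x` conjugates `α` into the subgroup `T` -/
def InT (i : T ⟶ G) (α : Red.Gm S ⟶ G) {X : Over S} (x : X ⟶ G) : Prop :=
  ∀ (X' : Over S) (y : X' ⟶ X) (t : X' ⟶ Red.Gm S), ∃ s : X' ⟶ T,
    s ≫ i = (y ≫ x) * (t ≫ α) * (y ≫ x)⁻¹

section Uniq

variable {α : Red.Gm S ⟶ G} [IsMonHom α] [IsAffineHom G.hom] {i : T ⟶ G} [IsMonHom i]

/-- two conjugates in `T` commute -/
lemma commute_of_inT (hT : IsComm T) {β : Red.Gm S ⟶ G} {X : Over S} {x y : X ⟶ G}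
    (hx : InT i α x) (hy : InT i β y) (s t : X ⟶ Red.Gm S) :
    (x * (s ≫ α) * x⁻¹) * (y * (t ≫ β) * y⁻¹) = (y * (t ≫ β) * y⁻¹) * (x * (s ≫ α) * x⁻¹) := by
  obtain ⟨a, ha⟩ := hx X (𝟙 _) s
  obtain ⟨b, hb⟩ := hy X (𝟙 _) t
  rw [Category.id_comp] at ha hb
  rw [← ha, ← hb, ← MonObj.mul_comp, ← MonObj.mul_comp, hT]

lemma InT.comp {X Y : Over S} {x : X ⟶ G} (hx : InT i α x) (y : Y ⟶ X) : InT i α (y ≫ x) := by
  intro X' y' t
  obtain ⟨s, hs⟩ := hx X' (y' ≫ y) t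
  exact ⟨s, by rw [hs, Category.assoc]⟩

/-- **Uniqueness.** -/
theorem eq_of_inT (hT : IsComm T) {X : Over S} {x y : X ⟶ G} (hxU : PtU α x) (hyU : PtU α y)
    (hx : InT i α x) (hy : InT i α y) : x = y := by
  have hwU : PtU α (x⁻¹ * y) := hxU.inv.mul hyU
  have hwZ : PtZ α (x⁻¹ * y) := by
    rw [ptZ_iff_centralizes]
    intro X' z t
    -- `q = w α(t) w⁻¹ α(t)⁻¹`
    have hW : PtU α (z ≫ (x⁻¹ * y)) := hwU.comp z
    have hA : PtP α (t ≫ α) := (comm_iff_ptZ.1 (comm_self α)).ptP.comp t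
    have hqU : PtU α ((z ≫ (x⁻¹ * y)) * ((t ≫ α) * (z ≫ (x⁻¹ * y))⁻¹ * (t ≫ α)⁻¹)) :=
      hW.mul (hW.inv.conj hA)
    have hqZ : PtZ α ((z ≫ (x⁻¹ * y)) * ((t ≫ α) * (z ≫ (x⁻¹ * y))⁻¹ * (t ≫ α)⁻¹)) := by
      rw [ptZ_iff_centralizes]
      intro X'' z' s
      have h1 := commute_of_inT hT ((hx.comp z).comp z') ((hy.comp z).comp z') s (z' ≫ t)
      have h2 : (s ≫ α) * ((z' ≫ t) ≫ α) = ((z' ≫ t) ≫ α) * (s ≫ α) := comm_self α _ _ _
      simp only [MonObj.comp_mul, GrpObj.comp_inv, Category.assoc] at h1 h2 ⊢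
      set a := s ≫ α
      set b := z' ≫ t ≫ α
      set X1 := z' ≫ z ≫ x
      set Y1 := z' ≫ z ≫ y
      have h3 : (X1⁻¹ * Y1 * b * Y1⁻¹ * X1) * a = a * (X1⁻¹ * Y1 * b * Y1⁻¹ * X1) := by
        have h4 : X1 * a * X1⁻¹ * (Y1 * b * Y1⁻¹) = Y1 * b * Y1⁻¹ * (X1 * a * X1⁻¹) := h1
        calc (X1⁻¹ * Y1 * b * Y1⁻¹ * X1) * a
            = X1⁻¹ * (Y1 * b * Y1⁻¹ * (X1 * a * X1⁻¹)) * X1 := by group
          _ = X1⁻¹ * (X1 * a * X1⁻¹ * (Y1 * b * Y1⁻¹)) * X1 := by rw [h4]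
          _ = _ := by group
      have h5 : b⁻¹ * a = a * b⁻¹ := by
        rw [inv_mul_eq_iff_eq_mul, ← _root_.mul_assoc, ← h2, mul_inv_cancel_right]
      calc X1⁻¹ * Y1 * (b * (X1⁻¹ * Y1)⁻¹ * b⁻¹) * a
          = (X1⁻¹ * Y1 * b * Y1⁻¹ * X1) * (b⁻¹ * a) := by group
        _ = (X1⁻¹ * Y1 * b * Y1⁻¹ * X1) * (a * b⁻¹) := by rw [h5]
        _ = ((X1⁻¹ * Y1 * b * Y1⁻¹ * X1) * a) * b⁻¹ := by group
        _ = (a * (X1⁻¹ * Y1 * b * Y1⁻¹ * X1)) * b⁻¹ := by rw [h3]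
        _ = _ := by group
    have h1 := eq_one_of_ptU_ptZ hqU hqZ
    set W := z ≫ (x⁻¹ * y)
    set A := t ≫ α
    calc W * A = (W * (A * W⁻¹ * A⁻¹)) * (A * W) := by group
      _ = A * W := by rw [h1, _root_.one_mul]
  have h := eq_one_of_ptU_ptZ hwU hwZ
  exact inv_mul_eq_one.1 h

end Uniq

section Bc

variable (f : S' ⟶ S)

lemma bcEquiv_lam (α : Red.Gm S ⟶ G) {X : Over S'} (t : (Over.map f).obj X ⟶ Red.Gm S) :
    (DSPts.bcEquiv f X (Red.Gm S) t ≫ (TorusAlgClosed.dsBcIso f ℤ).hom.hom.hom) ≫ bcLam α f =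
      DSPts.bcEquiv f X G (t ≫ α) := by
  have h1 : (TorusAlgClosed.dsBcIso f ℤ).hom.hom.hom ≫ (TorusAlgClosed.dsBcIso f ℤ).inv.hom.hom =
      𝟙 _ := by
    have h2 := congrArg (fun z => z.hom.hom) (TorusAlgClosed.dsBcIso f ℤ).hom_inv_id
    exact h2
  rw [bcLam, Category.assoc, reassoc_of% h1, DSPts.bcEquiv_comp]

/-- `InT` after base change gives `InT` -/
theorem inT_of_bc {α : Red.Gm S ⟶ G} {i : T ⟶ G} {X : Over S'} {x : X ⟶ Red.bc f G}
    (hx : InT ((Over.pullback f).map i : Red.bc f T ⟶ Red.bc f G) (bcLam α f) x) :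
    InT i α ((DSPts.bcEquiv f X G).symm x) := by
  intro X' y t
  let X'' : Over S' := Over.mk (y.left ≫ X.hom)
  let y'' : X'' ⟶ X := Over.homMk y.left rfl
  let e : (Over.map f).obj X'' ≅ X' := Over.isoMk (Iso.refl _) (by
    change 𝟙 _ ≫ X'.hom = (y.left ≫ X.hom) ≫ f
    rw [Category.id_comp, ← Over.w y, Category.assoc]
    rfl)
  have hy : e.hom ≫ y = (Over.map f).map y'' := by
    ext1
    exact Category.id_comp _
  obtain ⟨s, hs⟩ := hx X'' y'' (DSPts.bcEquiv f X'' (Red.Gm S) (e.hom ≫ t) ≫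
    (TorusAlgClosed.dsBcIso f ℤ).hom.hom.hom)
  refine ⟨e.inv ≫ (DSPts.bcEquiv f X'' T).symm s, ?_⟩
  rw [← cancel_epi e.hom, Category.assoc, Iso.hom_inv_id_assoc]
  apply (DSPts.bcEquiv f X'' G).injective
  rw [← DSPts.bcEquiv_comp, MulEquiv.apply_symm_apply, hs, bcEquiv_lam, MonObj.comp_mul,
    MonObj.comp_mul, GrpObj.comp_inv, map_mul, map_mul, map_inv, Category.assoc,
    reassoc_of% hy, DSPts.bcEquiv_symm_naturality, MulEquiv.apply_symm_apply]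

end Bc

section Desc

variable (f : S' ⟶ S) [Flat f] [Surjective f] [QuasiCompact f]
variable {α : Red.Gm S ⟶ G} [IsMonHom α] [IsAffineHom G.hom] {i : T ⟶ G} [IsMonHom i]

/-- the source of the covering as an object over the base -/
noncomputable abbrev X0 : Over S := (Over.map f).obj (𝟙_ (Over S'))

lemma toUnit_X0_left : (toUnit (X0 f)).left = 𝟙 _ ≫ f := by
  have h := Over.w (toUnit (X0 f))
  exact (Category.comp_id _).symm.trans h

instance : Flat (toUnit (X0 f)).left := by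
  rw [toUnit_X0_left]
  change Flat (𝟙 _ ≫ f)
  infer_instance

instance : Surjective (toUnit (X0 f)).left := by
  rw [toUnit_X0_left]
  change Surjective (𝟙 _ ≫ f)
  infer_instance

instance : QuasiCompact (toUnit (X0 f)).left := by
  rw [toUnit_X0_left]
  change QuasiCompact (𝟙 _ ≫ f)
  infer_instance

/-- **Descent.** -/
theorem exists_desc (hT : IsComm T) {u : 𝟙_ (Over S') ⟶ Red.bc f G} (hu : PtU (bcLam α f) u)
    (hi : InT ((Over.pullback f).map i : Red.bc f T ⟶ Red.bc f G) (bcLam α f) u) :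
    ∃ u₀ : 𝟙_ (Over S) ⟶ G, PtU α u₀ ∧ InT i α (toUnit (X0 f) ≫ u₀) := by
  obtain ⟨U, _, j, hj, -⟩ := exists_isDynU α
  have hjm := hj.mono
  have h1 : PtU α ((DSPts.bcEquiv f _ G).symm u) := (ptU_bc_iff f α u).1 hu
  obtain ⟨x, hx⟩ := (hj.iff_ptU _ _).2 h1
  have h2 : InT i α (x ≫ j) := by
    rw [hx]
    exact inT_of_bc f hi
  obtain ⟨u', hu'⟩ := Sga3.H140.QuotQC.exists_desc (toUnit (X0 f)) x fun _ g g' _ => by
    rw [← cancel_mono j, Category.assoc, Category.assoc]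
    refine eq_of_inT (α := α) (i := i) hT ?_ ?_ (h2.comp g) (h2.comp g')
    · rw [hx]; exact h1.comp g
    · rw [hx]; exact h1.comp g'
  refine ⟨u' ≫ j, (hj.iff_ptU _ _).1 ⟨u', rfl⟩, ?_⟩
  rw [← Category.assoc, hu']
  exact h2

/-- Commutation can be checked after the base change. -/
theorem comm_of_inT (hT : IsComm T) {β : Red.Gm S ⟶ G} [IsMonHom β] {u v : 𝟙_ (Over S) ⟶ G}
    (hu : InT i α (toUnit (X0 f) ≫ u)) (hv : InT i β (toUnit (X0 f) ≫ v)) :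
    Comm (ad u α) (ad v β) := by
  intro X s t
  have hfl : Flat (fst X (X0 f)).left := by
    change Flat (pullback.fst X.hom (X0 f).hom)
    have : Flat (X0 f).hom := by
      change Flat (𝟙 _ ≫ f)
      infer_instance
    infer_instance
  have hsu : Surjective (fst X (X0 f)).left := by
    change Surjective (pullback.fst X.hom (X0 f).hom)
    have : Surjective (X0 f).hom := by
      change Surjective (𝟙 _ ≫ f)
      infer_instance
    infer_instance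
  have hepi : Epi (fst X (X0 f)).left := Flat.epi_of_flat_of_surjective _
  have hepi' : Epi (fst X (X0 f)) := Over.epi_of_epi_left _
  rw [← cancel_epi (fst X (X0 f))]
  have h1 := commute_of_inT hT (hu.comp (snd X (X0 f))) (hv.comp (snd X (X0 f)))
    (fst X (X0 f) ≫ s) (fst X (X0 f) ≫ t)
  have h2 : ∀ (w : 𝟙_ (Over S) ⟶ G) (κ : Red.Gm S ⟶ G) (r : X ⟶ Red.Gm S),
      fst X (X0 f) ≫ r ≫ ad w κ = (snd X (X0 f) ≫ toUnit (X0 f) ≫ w) *
        ((fst X (X0 f) ≫ r) ≫ κ) * (snd X (X0 f) ≫ toUnit (X0 f) ≫ w)⁻¹ := by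
    intro w κ r
    rw [comp_ad, comp_ad, ad, Category.assoc, ← Category.assoc (snd X (X0 f)),
      toUnit_unique (snd X (X0 f) ≫ toUnit (X0 f)) (toUnit _)]
  rw [MonObj.comp_mul, MonObj.comp_mul, h2, h2]
  exact h1

/-- **The descent theorem.** -/
theorem d5_desc (hT : IsComm T) {β : Red.Gm S ⟶ G} [IsMonHom β]
    {u v : 𝟙_ (Over S') ⟶ Red.bc f G} (hu : PtU (bcLam α f) u) (hv : PtU (bcLam β f) v)
    (hiu : InT ((Over.pullback f).map i : Red.bc f T ⟶ Red.bc f G) (bcLam α f) u)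
    (hiv : InT ((Over.pullback f).map i : Red.bc f T ⟶ Red.bc f G) (bcLam β f) v) :
    ∃ u₀ v₀ : 𝟙_ (Over S) ⟶ G, PtU α u₀ ∧ PtU β v₀ ∧ Comm (ad u₀ α) (ad v₀ β) := by
  obtain ⟨u₀, h1, h2⟩ := exists_desc f hT hu hiu
  obtain ⟨v₀, h3, h4⟩ := exists_desc f hT hv hiv
  exact ⟨u₀, v₀, h1, h3, comm_of_inT f hT h2 h4⟩

end Desc

end Groth.Agent.RedSub.H606.Uniq
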