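import Groth.Agent.RedSub.H606.TorConj
import Groth.Agent.RedSub.H606.Uniq
import Groth.Agent.RedSub.H664.LeviSub
import Groth.Agent.Agf.H609.GrothFinal
import Groth.Agent.Sga3B.MaxTorNear900
import Groth.Agent.Sga3B.AlgBc

/-!
# Commuting conjugates of two cocharacters over an arbitrary field

`D5All K` for an algebraic closure `K` of the field `k` implies `D5All k`: `P(α) ∩ P(β)` is smooth
(check over `K`), so it has a maximal torus `T` over `k` (Grothendieck); there are unique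
`u ∈ U(α)`, `v ∈ U(β)` such that `u α u⁻¹` and `v β v⁻¹` factor through `T`.
-/

set_option autoImplicit false
set_option linter.unusedSectionVars false

universe u

open CategoryTheory MonoidalCategory CartesianMonoidalCategory MonObj GrpObj AlgebraicGeometry Limits
open Groth.Agent.Sga3B Groth.Agent.Sga3B.Parab Groth.Agent.Sga3B.Parab.Dyn998
open Groth.Agent.Sga3B.Parab.DynLevi998 Groth.Agent.Sga3B.Parab.DynInter998
open Groth.Agent.Sga3B.Parab.DynExist998 Groth.Agent.Sga3B.Parab.DynBc998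
open Groth.Agent.Sga3B.Parab.Rep998
open Groth.Agent.RedSub.H664.Comb Groth.Agent.RedSub.H664.Calc3 Groth.Agent.RedSub.H664.Ad
open Groth.Agent.RedSub.H664.Min Groth.Agent.RedSub.H664.LeviSub
open Groth.Agent.RedSub.H606.Uniq Groth.Agent.Sga3B.ResAlg

namespace Groth.Agent.RedSub.H606.D5Fld

section Inter

variable {S S' : Scheme.{u}} {G : Over S} [GrpObj G]

lemma idealCond_and {Q Q' : ∀ (C : Type u) [CommRing C] (c : Spec (CommRingCat.of C) ⟶ S),
    (aff C c ⟶ G) → Prop} (hQ : IdealCond Q) (hQ' : IdealCond Q') :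
    IdealCond (fun C _ c g => Q C c g ∧ Q' C c g) := by
  intro R _ r A _ _ e _
  obtain ⟨J, hJ⟩ := hQ R r A e
  obtain ⟨J', hJ'⟩ := hQ' R r A e
  refine ⟨J ⊔ J', fun C _ _ c hc g => ?_⟩
  change Q C c (Chart998.pt e hc g) ∧ Q' C c (Chart998.pt e hc g) ↔ _
  rw [hJ C c hc g, hJ' C c hc g]
  constructor
  · rintro ⟨h, h'⟩
    have h1 : J ⊔ J' ≤ RingHom.ker g.toRingHom := sup_le (fun a ha => h a ha) fun a ha => h' a ha
    exact fun a ha => h1 ha
  · exact fun h => ⟨fun a ha => h a (Ideal.mem_sup_left ha), fun a ha => h a (Ideal.mem_sup_right ha)⟩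

variable [IsAffineHom G.hom] (α β : Red.Gm S ⟶ G) [IsMonHom α] [IsMonHom β]

/-- The intersection `P(α) ∩ P(β)`. -/
theorem exists_inter : ∃ (H : Over S) (_ : GrpObj H) (h : H ⟶ G), IsMonHom h ∧ Mono h ∧
    IsClosedImmersion h.left ∧ ∀ (X : Over S) (g : X ⟶ G), (∃ x : X ⟶ H, x ≫ h = g) ↔
      PtP α g ∧ PtP β g := by
  obtain ⟨H, hg, h, h1, h2, h3, h4⟩ := exists_subgroup
    (idealCond_and (idealCond_limEx α) (idealCond_limEx β))
    (fun _ _ _ => ⟨limEx_one α, limEx_one β⟩)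
    (fun _ _ _ _ _ ha hb => ⟨ha.1.mul hb.1, ha.2.mul hb.2⟩)
    (fun _ _ _ _ ha => ⟨ha.1.inv, ha.2.inv⟩)
  refine ⟨H, hg, h, h1, h2, h3, fun X g => (h4 X g).trans ?_⟩
  exact ⟨fun h => ⟨fun C _ c x => (h C c x).1, fun C _ c x => (h C c x).2⟩,
    fun h C _ c x => ⟨h.1 C c x, h.2 C c x⟩⟩

variable {α β}

/-- Points of the intersection after base change. -/
lemma inter_bc (f : S' ⟶ S) {H : Over S} [GrpObj H] {h : H ⟶ G}
    (hH : ∀ (X : Over S) (g : X ⟶ G), (∃ x : X ⟶ H, x ≫ h = g) ↔ PtP α g ∧ PtP β g)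
    (X : Over S') (g : X ⟶ Red.bc f G) :
    (∃ x : X ⟶ Red.bc f H, x ≫ (Over.pullback f).map h = g) ↔
      PtP (bcLam α f) g ∧ PtP (bcLam β f) g := by
  rw [exists_bc_iff, hH, ptP_bc_iff, ptP_bc_iff]

/-- For commuting cocharacters the intersection `P(α) ∩ P(β)` is smooth. -/
theorem smooth_inter_of_comm [Smooth G.hom] (hc : Comm α β) {H : Over S} [GrpObj H] {h : H ⟶ G}
    [IsMonHom h] [Mono h]
    (hH : ∀ (X : Over S) (g : X ⟶ G), (∃ x : X ⟶ H, x ≫ h = g) ↔ PtP α g ∧ PtP β g) :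
    Smooth H.hom := by
  obtain ⟨P, _, p, hp, hpc⟩ := exists_isDynP α
  have hpm := hp.isMonHom
  have hpo := hp.mono
  have hPs : Smooth P.hom := hp.smooth
  have hPa : IsAffineHom P.hom := by
    rw [← Over.w p]
    infer_instance
  obtain ⟨b, hb⟩ := (hp.iff_ptP _ _).2 (comm_iff_ptZ.1 hc).ptP
  have hbm : IsMonHom b := OppS172.isMonHom_of_comp b p (by rw [hb]; infer_instance)
  obtain ⟨Q, _, q, hq, hqc⟩ := exists_isDynP b
  have hqm := hq.isMonHom
  have hqo := hq.mono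
  have hQs : Smooth Q.hom := hq.smooth
  have hQ : ∀ (X : Over S) (g : X ⟶ G), (∃ x : X ⟶ Q, x ≫ q ≫ p = g) ↔ PtP α g ∧ PtP β g := by
    intro X g
    constructor
    · rintro ⟨x, rfl⟩
      refine ⟨(hp.iff_ptP _ _).1 ⟨x ≫ q, Category.assoc _ _ _⟩, ?_⟩
      rw [← hb, ← Category.assoc, ptP_map_iff p]
      exact (hq.iff_ptP _ _).1 ⟨x, rfl⟩
    · rintro ⟨h1, h2⟩
      obtain ⟨y, rfl⟩ := (hp.iff_ptP _ _).2 h1
      rw [← hb, ptP_map_iff p] at h2
      obtain ⟨x, rfl⟩ := (hq.iff_ptP _ _).2 h2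
      exact ⟨x, (Category.assoc _ _ _).symm⟩
  obtain ⟨φ, -, hφ⟩ := exists_iso_of_pts (p := h) (p' := q ≫ p) _ hH hQ
  rw [← Over.w φ.hom]
  have : IsIso φ.hom.left := (Over.forget S).map_isIso φ.hom
  infer_instance

end Inter

section Alg

variable {S : Scheme.{u}} {G : Over S} [GrpObj G] {α : Red.Gm S ⟶ G}

/-- a rational point of `P(α)` acts on `α` through a point of `U(α)` -/
lemma exists_ptU [IsMonHom α] [IsAffineHom G.hom] {w : 𝟙_ (Over S) ⟶ G} (hw : PtP α w) :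
    ∃ u : 𝟙_ (Over S) ⟶ G, PtU α u ∧ ad u α = ad w α := by
  obtain ⟨z, u, hz, hu, h⟩ := hw.inv.exists_levi
  refine ⟨u⁻¹, hu.inv, ?_⟩
  have h1 : w = u⁻¹ * z⁻¹ := by
    rw [← _root_.mul_inv_rev, h, _root_.inv_inv]
  rw [h1, ad_mul, ad_eq_of_ptZ hz.inv]

end Alg

variable (k : Type u) [Field k]

/-- the base change to the algebraic closure -/
noncomputable abbrev fK : Spec (CommRingCat.of (AlgebraicClosure k)) ⟶ Spec (CommRingCat.of k) :=
  Spec.map (CommRingCat.ofHom (algebraMap k (AlgebraicClosure k)))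

instance : AlgRes (fK k) := algRes_SpecMap (A := CommRingCat.of k) (AlgebraicClosure k) _
  (by
    have h : Algebra.IsIntegral k (AlgebraicClosure k) := inferInstance
    exact algebraMap_isIntegral_iff.2 h)

instance : Flat (fK k) := by
  rw [Flat.SpecMap_iff]
  have h : (algebraMap k (AlgebraicClosure k)).Flat := by
    rw [RingHom.flat_algebraMap_iff]
    infer_instance
  exact h

instance : Surjective (fK k) := by
  constructor
  intro x
  refine ⟨Classical.arbitrary _, Subsingleton.elim _ _⟩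

/-- **`D5` over the algebraic closure implies `D5` over the field.** -/
theorem d5_of_algClosure (h : D5All (AlgebraicClosure k)) : D5All k := by
  intro G _ hG α β hα hβ
  have hGa : IsAffineHom G.hom := hG.1
  have hGs : Smooth G.hom := hG.2.1
  have hGK : Red.IsReductive (Red.bc (fK k) G) := AlgBc.isReductive_bc (fK k) hG
  have hGKa : IsAffineHom (Red.bc (fK k) G).hom := hGK.1
  have hGKs : Smooth (Red.bc (fK k) G).hom := hGK.2.1
  obtain ⟨u0, v0, hu0, hv0, hc⟩ := h _ hGK (bcLam α (fK k)) (bcLam β (fK k)) inferInstance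
    inferInstance
  obtain ⟨H, _, j, hj1, hj2, hj3, hH⟩ := exists_inter α β
  have hHK := inter_bc (fK k) hH
  have e1 : Eqv (ad u0 (bcLam α (fK k))) (bcLam α (fK k)) := eqv_ad hu0.ptP
  have e2 : Eqv (ad v0 (bcLam β (fK k))) (bcLam β (fK k)) := eqv_ad hv0.ptP
  have hHK' : ∀ (X : Over (Spec (CommRingCat.of (AlgebraicClosure k)))) (g : X ⟶ Red.bc (fK k) G),
      (∃ x : X ⟶ Red.bc (fK k) H, x ≫ (Over.pullback (fK k)).map j = g) ↔
        PtP (ad u0 (bcLam α (fK k))) g ∧ PtP (ad v0 (bcLam β (fK k))) g := by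
    intro X g
    rw [hHK X g]
    exact ⟨fun h => ⟨e1.2 _ _ h.1, e2.2 _ _ h.2⟩, fun h => ⟨e1.1 _ _ h.1, e2.1 _ _ h.2⟩⟩
  -- smoothness
  have hHKs : Smooth (Red.bc (fK k) H).hom := smooth_inter_of_comm hc hHK'
  have hHs : Smooth H.hom := by
    refine MorphismProperty.of_pullback_snd_of_descendsAlong
      (Q := @Surjective ⊓ @Flat ⊓ @QuasiCompact) (f := H.hom) (g := fK k) ?_ hHKs
    exact ⟨⟨inferInstance, inferInstance⟩, inferInstance⟩
  have hHa : IsAffineHom H.hom := by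
    rw [← Over.w j]
    infer_instance
  have hHaf : IsAffine H.left := isAffine_of_isAffineHom H.hom
  -- the torus
  obtain ⟨T, _, i, hi⟩ := Agf.H609.GrothFinal.exists_isMaximalTorus H
  have him := hi.1
  have hiK := AlgBc.isMaximalTorus_bc (fK k) hi
  -- the cocharacters factor through the intersection
  have pa1 : PtP (ad u0 (bcLam α (fK k))) (ad u0 (bcLam α (fK k))) :=
    (comm_iff_ptZ.1 (comm_self _)).ptP
  have pb1 : PtP (ad v0 (bcLam β (fK k))) (ad v0 (bcLam β (fK k))) :=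
    (comm_iff_ptZ.1 (comm_self _)).ptP
  obtain ⟨a, ha⟩ := (hHK' _ _).2 ⟨pa1, (comm_iff_ptZ.1 hc.symm).ptP⟩
  obtain ⟨b, hb⟩ := (hHK' _ _).2 ⟨(comm_iff_ptZ.1 hc).ptP, pb1⟩
  have ham : IsMonHom a := OppS172.isMonHom_of_comp a ((Over.pullback (fK k)).map j)
    (by rw [ha]; infer_instance)
  have hbm : IsMonHom b := OppS172.isMonHom_of_comp b ((Over.pullback (fK k)).map j)
    (by rw [hb]; infer_instance)
  have hab : Comm a b := comm_of_comp ((Over.pullback (fK k)).map j) (by rw [ha, hb]; exact hc)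
  have hHKa : IsAffineHom (Red.bc (fK k) H).hom :=
    MorphismProperty.pullback_snd (P := @IsAffineHom) _ _ hHa
  have hHKaf : IsAffine (Red.bc (fK k) H).left := isAffine_of_isAffineHom (Red.bc (fK k) H).hom
  obtain ⟨g₀, s, t, hs, ht⟩ := TorConj.exists_conj_two (Red.bc (fK k) H)
    ((Over.pullback (fK k)).map i) hiK a b hab
  have hg : PtP (bcLam α (fK k)) (g₀ ≫ (Over.pullback (fK k)).map j) ∧
    PtP (bcLam β (fK k)) (g₀ ≫ (Over.pullback (fK k)).map j) := (hHK _ _).1 ⟨g₀, rfl⟩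
  obtain ⟨u, hu, hu'⟩ := exists_ptU (hg.1.mul hu0.ptP)
  obtain ⟨v, hv, hv'⟩ := exists_ptU (hg.2.mul hv0.ptP)
  have hsu : s ≫ (Over.pullback (fK k)).map (i ≫ j) = ad u (bcLam α (fK k)) := by
    rw [hu', ad_mul, ← ha, ad_comp, ← hs, Category.assoc, Functor.map_comp]
  have htv : t ≫ (Over.pullback (fK k)).map (i ≫ j) = ad v (bcLam β (fK k)) := by
    rw [hv', ad_mul, ← hb, ad_comp, ← ht, Category.assoc, Functor.map_comp]
  refine d5_desc (fK k) (i := i ≫ j) (fun X s t => MaxTorNear900.mul_comm_of_isTorus hi.2.2.1 X s t) hu hv ?_ ?_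
  · intro X y r
    refine ⟨r ≫ s, ?_⟩
    rw [Category.assoc, hsu, comp_ad, ad, toUnit_unique y (toUnit X)]
  · intro X y r
    refine ⟨r ≫ t, ?_⟩
    rw [Category.assoc, htv, comp_ad, ad, toUnit_unique y (toUnit X)]

end Groth.Agent.RedSub.H606.D5Fld
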