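import Groth.Agent.Sga3.H795.MaxTorDim
import Groth.Agent.Sga3B.DSAff
import Groth.Agent.RedSub.H664.Ad

/-!
# Two commuting cocharacters are simultaneously conjugate into a given maximal torus

`K` algebraically closed, `H` an affine group scheme of finite type over `K` (no smoothness, no
connectedness).
-/

set_option autoImplicit false

universe u

open CategoryTheory MonoidalCategory CartesianMonoidalCategory MonObj GrpObj AlgebraicGeometry

namespace Groth.Agent.RedSub.H606.TorConj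

open Groth.Agent.Sga3B Groth.Agent.Sga3B.RG Groth.Agent.Sga3B.RG.BrPts
  Groth.Agent.Sga3B.RG.BrTorus Groth.Agent.Sga3B.RG.BrImg Groth.Agent.Sga3B.RG.BrHc
open Groth.Agent.Books.AffBridge Groth.Agent.Books.AffBridge2
open Groth.Agent.RedSub.H664.Comb Groth.Agent.RedSub.H664.Ad
open LaurentPolynomial

variable {K : Type u} [Field K] [IsAlgClosed K]

set_option backward.isDefEq.respectTransparency.types false in
lemma smooth_gm (S : Scheme.{u}) : Smooth (Red.Gm S).hom := by
  have h1 : Smooth (Red.diag (ULift.{u} ℤ) ℤ).hom := TorusAlgClosed.diag_smooth ℤ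
  exact MorphismProperty.pullback_snd _ _ h1

/-- The points of the image of a cocharacter form a torus. -/
theorem isTorusSub_ptsSub_gm {A : Type u} [CommRing A] [HopfAlgebra K A] [Algebra.FiniteType K A]
    (lam : Red.Gm (Spec (CommRingCat.of K)) ⟶ SpecOver K A) [IsMonHom lam] :
    IsTorusSub (ptsSub lam) := by
  let sp : Red.Gm (Spec (CommRingCat.of K)) ≅ SpecOver K (MonoidAlgebra K (Multiplicative ℤ)) :=
    asIso (DSAff.dsTo K ℤ)
  have hsp : IsMonHom sp.hom := inferInstanceAs (IsMonHom (DSAff.dsTo K ℤ))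
  obtain ⟨φ, hφ⟩ := exists_bialgHom_of_isMonHom K (sp.inv ≫ lam)
  let κ : K[T;T⁻¹] ≃ₐc[K] MonoidAlgebra K (Multiplicative ℤ) :=
    AddMonoidAlgebra.toMultiplicativeBialgEquiv K K ℤ
  let c : A →ₐc[K] K[T;T⁻¹] :=
    (κ.symm : MonoidAlgebra K (Multiplicative ℤ) →ₐc[K] K[T;T⁻¹]).comp φ
  have hc : ptsSub lam = (cochPt c).range := by
    rw [ptsSub_eq_range lam φ sp (by rw [hφ, Iso.hom_inv_id_assoc])]
    have h1 : ∀ y t, gmPt t = Pt.map (κ : K[T;T⁻¹] →ₐc[K]
        MonoidAlgebra K (Multiplicative ℤ)) y → Pt.map φ y = cochPt c t := by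
      intro y t ht
      apply Pt.ext'
      intro b
      rw [cochPt_apply, ht]
      change y (φ b) = y (κ (κ.symm (φ b)))
      rw [BialgEquiv.apply_symm_apply]
    ext x
    constructor
    · rintro ⟨y, rfl⟩
      obtain ⟨t, ht⟩ := TorusGen.gmPt_surjective
        (Pt.map (κ : K[T;T⁻¹] →ₐc[K] MonoidAlgebra K (Multiplicative ℤ)) y)
      exact ⟨t, (h1 y t ht).symm⟩
    · rintro ⟨t, rfl⟩
      refine ⟨Pt.map (κ.symm : MonoidAlgebra K (Multiplicative ℤ) →ₐc[K] K[T;T⁻¹])
        (gmPt t), h1 _ t ?_⟩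
      apply Pt.ext'
      intro b
      change _ = gmPt t (κ.symm (κ b))
      rw [BialgEquiv.symm_apply_apply]
  rw [hc]
  exact isTorusSub_cochPt c

/-- **Two commuting cocharacters are simultaneously conjugate into a given maximal torus.** -/
theorem exists_conj_two (H : Over (Spec (CommRingCat.of K))) [GrpObj H] [IsAffine H.left]
    [LocallyOfFiniteType H.hom] {T : Over (Spec (CommRingCat.of K))} [GrpObj T] (i : T ⟶ H)
    (hi : Red.IsMaximalTorus i) (a b : Red.Gm (Spec (CommRingCat.of K)) ⟶ H) [IsMonHom a]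
    [IsMonHom b] (hab : Comm a b) :
    ∃ (γ : 𝟙_ (Over (Spec (CommRingCat.of K))) ⟶ H) (f g : Red.Gm (Spec (CommRingCat.of K)) ⟶ T),
      f ≫ i = ad γ a ∧ g ≫ i = ad γ b := by
  have hmh := hi.1
  have hmo := hi.2.1
  obtain ⟨A, _, _, e, he, hft⟩ := exists_hopf_ft H
  have hinv : IsMonHom e.inv := inferInstance
  have h1 := BrMax.isMaxTorusSub_of_isMaximalTorus i e hi
  have ha := isTorusSub_ptsSub_gm (a ≫ e.hom)
  have hb := isTorusSub_ptsSub_gm (b ≫ e.hom)
  have hsup : IsTorusSub (ptsSub (a ≫ e.hom) ⊔ ptsSub (b ≫ e.hom)) := by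
    apply TorusGen.isTorusSub_sup ha hb
    rintro x ⟨s, hs⟩ y ⟨t, ht⟩
    apply (ptEquiv K A).injective
    rw [map_mul, map_mul, ← hs, ← ht, ← Category.assoc, ← Category.assoc, ← MonObj.mul_comp,
      ← MonObj.mul_comp, hab]
  obtain ⟨T'', hmax, hle⟩ := hsup.exists_isMaxTorusSub
  obtain ⟨g, -, hg⟩ := ConjTori.exists_conj_of_le_closed (H := ⊤) Sga3.H795.MaxTorDim.isCl_top
    hmax.1 le_top (fun S hS _ hle => hmax.2 S hS hle) h1.1 le_top
    (fun S hS _ hle => h1.2 S hS hle)
  have hcl : IsClosedImmersion (i ≫ e.hom).left := isClosedImmersion_of_torus _ hi.2.2.1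
  have hsm := smooth_gm (Spec (CommRingCat.of K))
  obtain ⟨f, hf⟩ := Sga3.H795.MaxTorDim.exists_hom_of_le e a i hcl g (by
    rw [← hg]
    exact Subgroup.map_mono (le_sup_left.trans hle))
  obtain ⟨f', hf'⟩ := Sga3.H795.MaxTorDim.exists_hom_of_le e b i hcl g (by
    rw [← hg]
    exact Subgroup.map_mono (le_sup_right.trans hle))
  exact ⟨ptEquiv K A g ≫ e.inv, f, f', hf, hf'⟩

end Groth.Agent.RedSub.H606.TorConj
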